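import Mathlib.Algebra.Field.Basic
import Mathlib.Data.Fintype.Card

/-!
A computable field with four elements.
-/

set_option autoImplicit false

namespace Cfsg.Agent.Lib.G24

/-- The four elements `0, 1, ω, ω + 1`. -/
inductive K4
  | z | e | w | v
  deriving DecidableEq

namespace K4

instance instFintypeK4 : Fintype K4 where
  elems := {z, e, w, v}
  complete x := by cases x <;> decide

/-- Addition. -/
def add : K4 → K4 → K4
  | z, y => y
  | e, z => e | e, e => z | e, w => v | e, v => w
  | w, z => w | w, e => v | w, w => z | w, v => e
  | v, z => v | v, e => w | v, w => e | v, v => z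

/-- Multiplication. -/
def mul : K4 → K4 → K4
  | z, _ => z
  | e, y => y
  | w, z => z | w, e => w | w, w => v | w, v => e
  | v, z => z | v, e => v | v, w => e | v, v => w

/-- Inverse. -/
def inv : K4 → K4
  | z => z | e => e | w => v | v => w

instance instZeroK4 : Zero K4 := ⟨z⟩
instance instOneK4 : One K4 := ⟨e⟩
instance instAddK4 : Add K4 := ⟨add⟩
instance instMulK4 : Mul K4 := ⟨mul⟩
instance instNegK4 : Neg K4 := ⟨id⟩
instance instInvK4 : Inv K4 := ⟨inv⟩

instance instFieldK4 : Field K4 where
  add_assoc := by decide +kernel
  zero_add := by decide +kernel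
  add_zero := by decide +kernel
  add_comm := by decide +kernel
  neg_add_cancel := by decide +kernel
  mul_assoc := by decide +kernel
  one_mul := by decide +kernel
  mul_one := by decide +kernel
  mul_comm := by decide +kernel
  left_distrib := by decide +kernel
  right_distrib := by decide +kernel
  zero_mul := by decide +kernel
  mul_zero := by decide +kernel
  exists_pair_ne := ⟨z, e, by decide⟩
  mul_inv_cancel := by decide +kernel
  inv_zero := rfl
  nsmul := nsmulRec
  zsmul := zsmulRec
  nnqsmul := _
  qsmul := _

theorem card_eq : Fintype.card K4 = 4 := by decide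

end K4

end Cfsg.Agent.Lib.G24
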