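import Cfsg.Agent.Lib.ChevStructure.Order.Formula
import Cfsg.Agent.Lib.ChevStructure.CommGL
import Cfsg.Agent.Lib.G24.Field

/-!
The order of the Chevalley group of type `G2` over the field with four elements.
-/

set_option autoImplicit false
set_option maxRecDepth 100000

namespace Cfsg.Agent.Lib.G24.Order

open Cfsg.Lie Cfsg.Agent.Lib.ChevStructure

/-- representatives, level by level -/
def reps : List (List (List Nat)) := [
  [[], [0]],
  [[], [1], [0,1], [1,0,1], [0,1,0,1], [1,0,1,0,1]]]

/-- closure witnesses of level 0 -/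
def wit0 : List (List (Nat × List Nat)) := [
  [(1,[])],
  [(0,[])]]

/-- closure witnesses of level 1 -/
def wit1 : List (List (Nat × List Nat)) := [
  [(0,[0]), (1,[])],
  [(2,[]), (0,[])],
  [(1,[]), (3,[])],
  [(4,[]), (2,[])],
  [(3,[]), (5,[])],
  [(5,[0]), (4,[])]]

/-- closure witnesses -/
def wit : List (List (List (Nat × List Nat))) := [wit0, wit1]

theorem card_group : Nat.card (chevG2.group K4) = 251596800 := by
  have h := Fast.Certified.card_group Cert.G2.certified commOK_G2 (R := reps) (T := wit) (degs := [2, 6])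
    (U := [[-1, 0], [2, 1]]) (U' := [[-1, 0], [2, 1]]) (V := [[0, 1], [1, 2]]) (V' := [[-2, 1], [1, 0]])
    (d := [1, 1])
    (by decide +kernel) (by decide +kernel) (by decide +kernel) (K := K4) K4.card_eq
  have h1 : (∏ i : Fin chevG2.rank, Nat.gcd (4 - 1) (([1, 1] : List ℕ).getD i.val 0)) = 1 := by
    decide
  rw [h1, one_mul] at h
  exact h.trans (by decide +kernel)

end Cfsg.Agent.Lib.G24.Order
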