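import Cfsg.Agent.Lib.G24.Elements
import Cfsg.Agent.Lib.G24.Order
import Mathlib.GroupTheory.SemidirectProduct
import Mathlib.GroupTheory.Sylow

/-!
`W^k ⋊ G2(4)` has the prime divisors and the orders `pq` of `G2(4)`.
-/

set_option autoImplicit false
set_option linter.style.haveILetI false
set_option maxRecDepth 100000

namespace Cfsg.Agent.Lib.G24

open Matrix Cfsg.Lie

theorem card_G6 : Nat.card G6 = 251596800 :=
  (Nat.card_congr equivGroup.toEquiv).trans Order.card_group

theorem finite_G6 : Finite G6 := Nat.finite_of_card_ne_zero (by rw [card_G6]; norm_num)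

theorem prime_cases {q : ℕ} (hq : q.Prime) (h : q ∣ 251596800) :
    q = 2 ∨ q = 3 ∨ q = 5 ∨ q = 7 ∨ q = 13 := by
  rw [show (251596800 : ℕ) = 2 ^ 12 * 3 ^ 3 * 5 ^ 2 * 7 * 13 by norm_num] at h
  rcases hq.dvd_mul.1 h with h | h
  · rcases hq.dvd_mul.1 h with h | h
    · rcases hq.dvd_mul.1 h with h | h
      · rcases hq.dvd_mul.1 h with h | h
        · exact Or.inl ((Nat.prime_dvd_prime_iff_eq hq Nat.prime_two).1 (hq.dvd_of_dvd_pow h))
        · exact Or.inr (Or.inl ((Nat.prime_dvd_prime_iff_eq hq Nat.prime_three).1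
            (hq.dvd_of_dvd_pow h)))
      · exact Or.inr (Or.inr (Or.inl ((Nat.prime_dvd_prime_iff_eq hq (by norm_num)).1
          (hq.dvd_of_dvd_pow h))))
    · exact Or.inr (Or.inr (Or.inr (Or.inl ((Nat.prime_dvd_prime_iff_eq hq (by norm_num)).1 h))))
  · exact Or.inr (Or.inr (Or.inr (Or.inr ((Nat.prime_dvd_prime_iff_eq hq (by norm_num)).1 h))))

theorem orderOf_of_mat {g : G6} {n : ℕ} (hn : 0 < n)
    (h1 : (((g : GL (Fin 6) K4) : M6)) ^ n = 1)
    (h2 : ∀ q : ℕ, q.Prime → q ∣ n → (((g : GL (Fin 6) K4) : M6)) ^ (n / q) ≠ 1) : orderOf g = n := by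
  refine orderOf_eq_of_pow_and_pow_div_prime hn ?_ fun q hq hd h => h2 q hq hd ?_
  · exact Subtype.ext (Units.ext (by simpa using h1))
  · have := congrArg (fun x : G6 => (((x : GL (Fin 6) K4) : M6))) h
    simpa using this

theorem orderOf_six : orderOf six = 6 := by
  refine orderOf_of_mat (by norm_num) six_pow6 fun q hq hd => ?_
  rcases (show q = 2 ∨ q = 3 by
    have := Nat.le_of_dvd (by norm_num) hd
    interval_cases q <;> first | omega | (norm_num at hq)) with rfl | rfl
  · exact six_pow3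
  · exact six_pow2

theorem orderOf_ten : orderOf ten = 10 := by
  refine orderOf_of_mat (by norm_num) ten_pow10 fun q hq hd => ?_
  rcases (show q = 2 ∨ q = 5 by
    have := Nat.le_of_dvd (by norm_num) hd
    interval_cases q <;> first | omega | (norm_num at hq)) with rfl | rfl
  · exact ten_pow5
  · exact ten_pow2

theorem orderOf_seven : orderOf seven = 7 := by
  haveI : Fact (Nat.Prime 7) := ⟨by norm_num⟩
  refine orderOf_eq_prime (Subtype.ext (Units.ext (by simpa using seven_pow7))) fun h => seven_fpf.1 ?_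
  rw [h]; rfl

theorem orderOf_thirteen : orderOf thirteen = 13 := by
  haveI : Fact (Nat.Prime 13) := ⟨by norm_num⟩
  refine orderOf_eq_prime (Subtype.ext (Units.ext (by simpa using thirteen_pow13)))
    fun h => thirteen_fpf.1 ?_
  rw [h]; rfl

/-- The action on vectors. -/
theorem mulVec_pow {A : M6} {v : Fin 6 → K4} (h : A *ᵥ v = v) (n : ℕ) : (A ^ n) *ᵥ v = v := by
  induction n with
  | zero => simp
  | succ n ih => rw [pow_succ, ← Matrix.mulVec_mulVec, h, ih]

/-- An element of prime order `q`, with `q` dividing the group order once, fixes no non-zero vector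
if one such element fixes none. -/
theorem fpf_of_once {q : ℕ} [Fact q.Prime] (hq : (251596800 : ℕ).factorization q = 1) {x g : G6}
    (hx : orderOf x = q) (hfx : ∀ v : Fin 6 → K4, (((x : GL (Fin 6) K4) : M6)) *ᵥ v = v → v = 0)
    (hg : orderOf g = q) {v : Fin 6 → K4} (hv : (((g : GL (Fin 6) K4) : M6)) *ᵥ v = v) : v = 0 := by
  haveI := finite_G6
  let P : Sylow q G6 := Sylow.ofCard (Subgroup.zpowers x) (by
    rw [Nat.card_zpowers, hx, card_G6, hq, pow_one])
  let Q : Sylow q G6 := Sylow.ofCard (Subgroup.zpowers g) (by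
    rw [Nat.card_zpowers, hg, card_G6, hq, pow_one])
  obtain ⟨c, hc⟩ := MulAction.exists_smul_eq G6 Q P
  have hmem : c * g * c⁻¹ ∈ Subgroup.zpowers x := by
    have h1 : c * g * c⁻¹ ∈ ((c • Q : Sylow q G6) : Subgroup G6) := by
      rw [Sylow.coe_subgroup_smul]
      exact ⟨g, Subgroup.mem_zpowers g, rfl⟩
    rw [hc] at h1
    exact h1
  set y := c * g * c⁻¹ with hy
  have hyo : orderOf y = q := by
    rw [hy, show c * g * c⁻¹ = MulAut.conj c g from rfl, MulEquiv.orderOf_eq, hg]
  have hxy : x ∈ Subgroup.zpowers y := by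
    have e : Subgroup.zpowers y = Subgroup.zpowers x :=
      Subgroup.eq_of_le_of_card_ge (Subgroup.zpowers_le.2 hmem) (by
        rw [Nat.card_zpowers, Nat.card_zpowers, hx, hyo])
    rw [e]; exact Subgroup.mem_zpowers x
  obtain ⟨n, -, hn⟩ : ∃ n ∈ Set.univ, y ^ n = x := by
    obtain ⟨n, hn⟩ := (mem_powers_iff_mem_zpowers.2 hxy : x ∈ Submonoid.powers y)
    exact ⟨n, trivial, hn⟩
  set u := (((c : GL (Fin 6) K4) : M6)) *ᵥ v with hu
  have hyu : (((y : GL (Fin 6) K4) : M6)) *ᵥ u = u := by
    rw [hu, Matrix.mulVec_mulVec]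
    have e : (((y : GL (Fin 6) K4) : M6)) * ((c : GL (Fin 6) K4) : M6) =
        ((c : GL (Fin 6) K4) : M6) * ((g : GL (Fin 6) K4) : M6) := by
      rw [← Units.val_mul, ← Subgroup.coe_mul, hy, inv_mul_cancel_right, Subgroup.coe_mul,
        Units.val_mul]
    rw [e, ← Matrix.mulVec_mulVec, hv]
  have hu0 : u = 0 := hfx u (by
    rw [← hn]
    simpa using mulVec_pow hyu n)
  have h := congrArg (fun w => (((c : GL (Fin 6) K4)⁻¹ : GL (Fin 6) K4) : M6) *ᵥ w) hu0
  simp only [hu, Matrix.mulVec_mulVec, Matrix.mulVec_zero, ← Units.val_mul, inv_mul_cancel,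
    Units.val_one, Matrix.one_mulVec] at h
  exact h

/-- Prime orders of elements fixing a non-zero vector. -/
theorem fixer_prime {q : ℕ} (hq : q.Prime) {g : G6} (hg : orderOf g = q) {v : Fin 6 → K4}
    (hv : (((g : GL (Fin 6) K4) : M6)) *ᵥ v = v) (hv0 : v ≠ 0) : q = 2 ∨ q = 3 ∨ q = 5 := by
  haveI := finite_G6
  have hd : q ∣ 251596800 := by rw [← hg, ← card_G6]; exact orderOf_dvd_natCard g
  rcases prime_cases hq hd with h | h | h | h | h
  · exact Or.inl h
  · exact Or.inr (Or.inl h)
  · exact Or.inr (Or.inr h)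
  · subst h
    haveI : Fact (Nat.Prime 7) := ⟨hq⟩
    refine absurd (fpf_of_once ?_ orderOf_seven seven_fpf.2 hg hv) hv0
    rw [show (251596800 : ℕ) = 7 ^ 1 * 35942400 by norm_num,
      Nat.factorization_mul (by norm_num) (by norm_num), Finsupp.add_apply,
      Nat.factorization_eq_zero_of_not_dvd (n := 35942400) (by norm_num), Nat.Prime.factorization_pow hq,
      Finsupp.single_eq_same]
  · subst h
    haveI : Fact (Nat.Prime 13) := ⟨hq⟩
    refine absurd (fpf_of_once ?_ orderOf_thirteen thirteen_fpf.2 hg hv) hv0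
    rw [show (251596800 : ℕ) = 13 ^ 1 * 19353600 by norm_num,
      Nat.factorization_mul (by norm_num) (by norm_num), Finsupp.add_apply,
      Nat.factorization_eq_zero_of_not_dvd (n := 19353600) (by norm_num), Nat.Prime.factorization_pow hq,
      Finsupp.single_eq_same]

/-- `k` copies of the module. -/
abbrev Wk (k : ℕ) : Type := Fin k → Fin 6 → K4

/-- The action on `k` copies of the module. -/
def act (k : ℕ) : G6 →* MulAut (Multiplicative (Wk k)) where
  toFun g :=
    { toFun := fun w => Multiplicative.ofAdd fun i => (((g : GL (Fin 6) K4) : M6)) *ᵥ w.toAdd i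
      invFun := fun w => Multiplicative.ofAdd fun i =>
        ((((g⁻¹ : G6) : GL (Fin 6) K4) : M6)) *ᵥ w.toAdd i
      left_inv := fun w => by
        apply Multiplicative.toAdd.injective
        funext i
        simp [Matrix.mulVec_mulVec]
      right_inv := fun w => by
        apply Multiplicative.toAdd.injective
        funext i
        simp [Matrix.mulVec_mulVec]
      map_mul' := fun a b => by
        apply Multiplicative.toAdd.injective
        funext i
        simp [Matrix.mulVec_add] }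
  map_one' := by
    apply MulEquiv.ext
    intro w
    apply Multiplicative.toAdd.injective
    funext i
    simp
  map_mul' g h := by
    apply MulEquiv.ext
    intro w
    apply Multiplicative.toAdd.injective
    funext i
    simp [Matrix.mulVec_mulVec]

/-- The groups. -/
abbrev Hk (k : ℕ) : Type := Multiplicative (Wk k) ⋊[act k] G6

theorem finite_Hk (k : ℕ) : Finite (Hk k) :=
  haveI := finite_G6
  Finite.of_equiv _ SemidirectProduct.equivProd.symm

theorem card_Hk (k : ℕ) : Nat.card (Hk k) = 4096 ^ k * 251596800 := by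
  rw [Nat.card_congr SemidirectProduct.equivProd, Nat.card_prod, card_G6]
  congr 1
  show Nat.card (Wk k) = _
  rw [Nat.card_fun, Nat.card_fun, Nat.card_fin, Nat.card_fin, Nat.card_eq_fintype_card, K4.card_eq]
  norm_num

theorem dvd_card_iff {p : ℕ} (hp : p.Prime) (k : ℕ) :
    p ∣ 251596800 ↔ p ∣ Nat.card (Hk k) := by
  rw [card_Hk]
  refine ⟨fun h => h.mul_left _, fun h => ?_⟩
  rcases hp.dvd_mul.1 h with h | h
  · have h2 : p = 2 := (Nat.prime_dvd_prime_iff_eq hp Nat.prime_two).1 (hp.dvd_of_dvd_pow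
      (show p ∣ 2 ^ 12 from hp.dvd_of_dvd_pow h))
    rw [h2]; norm_num
  · exact h

theorem wk_sq (k : ℕ) (w : Multiplicative (Wk k)) : w ^ 2 = 1 := by
  have h4 : ∀ a : K4, a + a = 0 := by decide
  apply Multiplicative.toAdd.injective
  funext i j
  rw [toAdd_pow, two_nsmul, toAdd_one, Pi.add_apply, Pi.add_apply]
  exact h4 _

theorem pq_iff (k : ℕ) {p q : ℕ} (hp : p.Prime) (hq : q.Prime) (hpq : p ≠ q) :
    (∃ g : G6, orderOf g = p * q) ↔ ∃ h : Hk k, orderOf h = p * q := by
  constructor
  · rintro ⟨g, hg⟩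
    exact ⟨SemidirectProduct.inr g,
      by rw [orderOf_injective _ SemidirectProduct.inr_injective, hg]⟩
  rintro ⟨h, hh⟩
  set g := SemidirectProduct.rightHom h with hg
  have hd : orderOf g ∣ p * q := hh ▸ orderOf_map_dvd _ h
  by_cases hfull : orderOf g = p * q
  · exact ⟨g, hfull⟩
  have hpow : ∀ n, g ^ n = 1 → ∃ w, h ^ n = SemidirectProduct.inl w := by
    intro n hn
    refine ⟨(h ^ n).left, SemidirectProduct.ext (by simp) ?_⟩
    rw [SemidirectProduct.right_inl, ← SemidirectProduct.rightHom_eq_right, map_pow, ← hg, hn]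
  have hsq : ∀ n, g ^ n = 1 → h ^ (n * 2) = 1 := by
    intro n hn
    obtain ⟨w, hw⟩ := hpow n hn
    rw [pow_mul, hw, ← map_pow, wk_sq, map_one]
  -- the prime dividing the order of `g`
  obtain ⟨a, b, ha, hb, hab, hga⟩ : ∃ a b : ℕ, a.Prime ∧ b.Prime ∧ a * b = p * q ∧ orderOf g ∣ a := by
    rcases (Nat.dvd_mul.1 hd) with ⟨u, v, hu, hv, huv⟩
    rcases (Nat.dvd_prime hp).1 hu with rfl | rfl
    · exact ⟨q, p, hq, hp, mul_comm q p, by rw [← huv, one_mul]; exact hv⟩
    · rcases (Nat.dvd_prime hq).1 hv with rfl | rfl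
      · exact ⟨u, q, hp, hq, rfl, by rw [← huv, mul_one]⟩
      · exact absurd huv.symm hfull
  have hga1 : g ^ a = 1 := orderOf_dvd_iff_pow_eq_one.1 hga
  have hb2 : b = 2 := by
    have := orderOf_dvd_of_pow_eq_one (hsq a hga1)
    rw [hh, ← hab] at this
    exact ((Nat.prime_dvd_prime_iff_eq hb Nat.prime_two).1
      (Nat.dvd_of_mul_dvd_mul_left ha.pos this))
  have ha2 : a ≠ 2 := by
    rintro rfl
    subst hb2
    have h4 : ¬ Squarefree (2 * 2) := fun h => absurd (h 2 dvd_rfl) (by decide)
    exact h4 (hab ▸ (Nat.squarefree_mul ((Nat.coprime_primes hp hq).2 hpq)).2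
      ⟨hp.squarefree, hq.squarefree⟩)
  have hgo : orderOf g = a := by
    rcases (Nat.dvd_prime ha).1 hga with h1 | h1
    · exfalso
      have h2 := orderOf_dvd_of_pow_eq_one (hsq 1 (by rw [pow_one]; exact orderOf_eq_one_iff.1 h1))
      rw [hh, ← hab, hb2, one_mul] at h2
      have := Nat.le_of_dvd (by norm_num) h2
      have := ha.two_le
      omega
    · exact h1
  obtain ⟨w, hw⟩ := hpow a hga1
  have hw1 : w ≠ 1 := by
    rintro rfl
    rw [map_one] at hw
    have := Nat.le_of_dvd ha.pos (hh ▸ orderOf_dvd_of_pow_eq_one hw)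
    rw [← hab, hb2] at this
    have := ha.two_le
    omega
  have hfix : act k g w = w := by
    have hc : h * SemidirectProduct.inl w = SemidirectProduct.inl w * h := by
      rw [← hw]; exact (Commute.self_pow h a).eq
    have hl := congrArg SemidirectProduct.left hc
    rw [SemidirectProduct.mul_left, SemidirectProduct.mul_left, SemidirectProduct.left_inl,
      SemidirectProduct.right_inl, map_one, MulAut.one_apply, mul_comm w] at hl
    exact mul_left_cancel hl
  obtain ⟨i, hi⟩ : ∃ i, w.toAdd i ≠ 0 := by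
    by_contra hall
    push Not at hall
    exact hw1 (Multiplicative.toAdd.injective (funext fun i => hall i))
  have hv : (((g : GL (Fin 6) K4) : M6)) *ᵥ w.toAdd i = w.toAdd i :=
    congrFun (congrArg Multiplicative.toAdd hfix) i
  rcases fixer_prime ha hgo hv hi with rfl | rfl | rfl
  · exact absurd rfl ha2
  · exact ⟨six, by rw [orderOf_six, ← hab, hb2]⟩
  · exact ⟨ten, by rw [orderOf_ten, ← hab, hb2]⟩

end Cfsg.Agent.Lib.G24
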