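import Cfsg.Prelude.Def_Chevalley

/-!
Chevalley groups over isomorphic fields are isomorphic.
-/

set_option autoImplicit false

namespace Cfsg.Agent.Lib.G24.Transport

open Cfsg.Lie

variable {F : Type*} [Field F] {K : Type*} [Field K] (D : ChevalleyDatum)

theorem xMat_map (f : F ≃+* K) (r : Fin D.nroots) (t : F) :
    (D.xMat F r t).map f = D.xMat K r (f t) := by
  ext row col
  simp only [Matrix.map_apply, ChevalleyDatum.xMat, Matrix.of_apply]
  rcases col with i | s
  · rcases row with i' | u
    · dsimp only; split_ifs <;> simp
    · dsimp only; split_ifs <;> simp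
  · dsimp only
    split_ifs with h1 h2
    · rcases row with i' | u
      · simp
      · dsimp only; split_ifs <;> simp
    · rcases row with i' | u
      · simp
      · dsimp only; split_ifs <;> simp
    · rcases row with i' | u
      · simp
      · simp [map_list_sum, List.map_map, Function.comp_def, apply_ite (f : F → K)]

theorem map_group (f : F ≃+* K) :
    (D.group F).map (Matrix.GeneralLinearGroup.map (f : F →+* K)) = D.group K := by
  rw [ChevalleyDatum.group, MonoidHom.map_closure]
  refine congrArg Subgroup.closure (Set.ext fun x => ⟨?_, ?_⟩)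
  · rintro ⟨g, ⟨r, t, hg⟩, rfl⟩
    refine ⟨r, f t, ?_⟩
    show ((g : Matrix D.Idx D.Idx F)).map f = _
    rw [hg, xMat_map]
  · rintro ⟨r, t, hx⟩
    refine ⟨Matrix.GeneralLinearGroup.map (f.symm : K →+* F) x, ⟨r, f.symm t, ?_⟩, ?_⟩
    · show ((x : Matrix D.Idx D.Idx K)).map f.symm = _
      rw [hx, xMat_map]
    · ext i j
      simp

/-- The isomorphism of Chevalley groups from an isomorphism of fields. -/
noncomputable def groupEquiv (f : F ≃+* K) : D.group F ≃* D.group K :=
  ((D.group F).equivMapOfInjective (Matrix.GeneralLinearGroup.map (f : F →+* K)) (fun a b h => by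
    ext i j
    exact f.injective (congrFun (congrFun (congrArg (fun g : GL D.Idx K => (g : Matrix D.Idx D.Idx K)) h) i) j))).trans
    (MulEquiv.subgroupCongr (map_group D f))

end Cfsg.Agent.Lib.G24.Transport
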