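import Cfsg.Agent.Lib.G24.Data
import Mathlib.GroupTheory.Finiteness

/-!
The group generated by the root elements in dimension six is the Chevalley group of type `G2`
over the field with four elements.
-/

set_option autoImplicit false
set_option maxRecDepth 100000

namespace Cfsg.Agent.Lib.G24

open Matrix Cfsg.Lie

/-- The root elements as invertible matrices. -/
def xg (r : Fin 12) (t : K4) : GL (Fin 6) K4 := ⟨xm r t, xm r t, xm_sq r t, xm_sq r t⟩

/-- The generators. -/
def genSet : Set (GL (Fin 6) K4) := {g | ∃ r t, g = xg r t}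

/-- The group in dimension six. -/
def G6 : Subgroup (GL (Fin 6) K4) := Subgroup.closure genSet

theorem xg_mem (r : Fin 12) (t : K4) : xg r t ∈ G6 := Subgroup.subset_closure ⟨r, t, rfl⟩

/-- The coordinates of a conjugate of a basis matrix. -/
def adM (g : GL (Fin 6) K4) : Matrix I14 I14 K4 :=
  Matrix.of fun l k => ((g : M6) * bas k * ((g⁻¹ : GL (Fin 6) K4) : M6)) (piv l).1 (piv l).2

/-- Conjugation stays in the span of the basis matrices. -/
def InSpan (g : GL (Fin 6) K4) : Prop :=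
  ∀ k, (g : M6) * bas k * ((g⁻¹ : GL (Fin 6) K4) : M6) = ∑ l, adM g l k • bas l

theorem inv_xg (r : Fin 12) (t : K4) : (((xg r t)⁻¹ : GL (Fin 6) K4) : M6) = xm r t := rfl

theorem adM_xg (r : Fin 12) (t : K4) : adM (xg r t) = chevG2.xMat K4 r t := by
  ext l k
  show (xm r t * bas k * xm r t) (piv l).1 (piv l).2 = _
  rw [mul_assoc]
  exact coord_xm r t k l

theorem inSpan_xg (r : Fin 12) (t : K4) : InSpan (xg r t) := by
  intro k
  ext i j
  rw [Matrix.sum_apply]
  show (xm r t * bas k * xm r t) i j = _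
  rw [mul_assoc]
  refine (span_xm r t k i j).trans (Finset.sum_congr rfl fun l _ => ?_)
  rw [Matrix.smul_apply, smul_eq_mul, mul_comm]
  show _ = (xm r t * bas k * xm r t) (piv l).1 (piv l).2 * _
  rw [mul_assoc]

theorem coord_sum (c : I14 → K4) (l : I14) :
    (∑ m, c m • bas m) (piv l).1 (piv l).2 = c l := by
  rw [Matrix.sum_apply]
  simp [Matrix.smul_apply, coord_bas]

theorem conj_mul {g h : GL (Fin 6) K4} (hg : InSpan g) (hh : InSpan h) (k : I14) :
    ((g * h : GL (Fin 6) K4) : M6) * bas k * (((g * h)⁻¹ : GL (Fin 6) K4) : M6) =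
      ∑ l, (adM g * adM h) l k • bas l := by
  have e : ((g * h : GL (Fin 6) K4) : M6) * bas k * (((g * h)⁻¹ : GL (Fin 6) K4) : M6) =
      (g : M6) * ((h : M6) * bas k * ((h⁻¹ : GL (Fin 6) K4) : M6)) * ((g⁻¹ : GL (Fin 6) K4) : M6) := by
    rw [_root_.mul_inv_rev, Units.val_mul, Units.val_mul]
    simp only [mul_assoc]
  rw [e, hh k, Matrix.mul_sum, Matrix.sum_mul]
  simp only [Matrix.mul_smul, Matrix.smul_mul, hg _, Finset.smul_sum, smul_smul]
  rw [Finset.sum_comm]
  refine Finset.sum_congr rfl fun m _ => ?_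
  rw [← Finset.sum_smul, Matrix.mul_apply]
  exact congrArg (· • bas m) (Finset.sum_congr rfl fun l _ => mul_comm _ _)

theorem adM_mul {g h : GL (Fin 6) K4} (hg : InSpan g) (hh : InSpan h) :
    adM (g * h) = adM g * adM h := by
  ext l k
  show (((g * h : GL (Fin 6) K4) : M6) * bas k * (((g * h)⁻¹ : GL (Fin 6) K4) : M6))
    (piv l).1 (piv l).2 = _
  rw [conj_mul hg hh k, coord_sum]

theorem adM_one : adM 1 = 1 := by
  ext l k
  show (((1 : GL (Fin 6) K4) : M6) * bas k * (((1 : GL (Fin 6) K4)⁻¹ : GL (Fin 6) K4) : M6))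
    (piv l).1 (piv l).2 = _
  rw [inv_one, Units.val_one, one_mul, mul_one, coord_bas, Matrix.one_apply]

/-- The invariant set. -/
def Inv6 (g : GL (Fin 6) K4) : Prop := InSpan g ∧ (g : M6)ᵀ * J6 * (g : M6) = J6

theorem inv6_of_mem {g : GL (Fin 6) K4} (hg : g ∈ G6) : Inv6 g := by
  induction hg using Subgroup.closure_induction'' with
  | one =>
    refine ⟨fun k => ?_, by simp⟩
    rw [adM_one, inv_one, Units.val_one, one_mul, mul_one]
    simp [Matrix.one_apply, ite_smul]
  | mem x hx =>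
    obtain ⟨r, t, rfl⟩ := hx
    exact ⟨inSpan_xg r t, xm_symp r t⟩
  | inv_mem x hx =>
    obtain ⟨r, t, rfl⟩ := hx
    have e : (xg r t)⁻¹ = xg r t := Units.ext rfl
    rw [e]
    exact ⟨inSpan_xg r t, xm_symp r t⟩
  | mul x y _ _ hx hy =>
    refine ⟨fun k => ?_, ?_⟩
    · rw [conj_mul hx.1 hy.1, adM_mul hx.1 hy.1]
    · rw [Units.val_mul, Matrix.transpose_mul]
      calc (y : M6)ᵀ * (x : M6)ᵀ * J6 * ((x : M6) * y)
          = (y : M6)ᵀ * ((x : M6)ᵀ * J6 * x) * y := by simp only [mul_assoc]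
        _ = J6 := by rw [hx.2, hy.2]

/-- The adjoint map on matrices. -/
def adMatHom : G6 →* Matrix I14 I14 K4 where
  toFun g := adM g
  map_one' := adM_one
  map_mul' g h := adM_mul (inv6_of_mem g.2).1 (inv6_of_mem h.2).1

/-- The adjoint homomorphism. -/
def ad : G6 →* GL I14 K4 := adMatHom.toHomUnits

theorem coe_ad (g : G6) : (ad g : Matrix I14 I14 K4) = adM g := rfl

theorem ad_range : ad.range = chevG2.group K4 := by
  have h : (⊤ : Subgroup G6) = Subgroup.closure ((Subtype.val : G6 → GL (Fin 6) K4) ⁻¹' genSet) :=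
    (Subgroup.closure_closure_coe_preimage (k := genSet)).symm
  rw [MonoidHom.range_eq_map, h, MonoidHom.map_closure]
  refine congrArg Subgroup.closure (Set.ext fun x => ⟨?_, ?_⟩)
  · rintro ⟨g, ⟨r, t, hg⟩, rfl⟩
    exact ⟨r, t, by rw [coe_ad, hg, adM_xg]⟩
  · rintro ⟨r, t, hx⟩
    refine ⟨⟨xg r t, xg_mem r t⟩, ⟨r, t, rfl⟩, Units.ext ?_⟩
    rw [hx]
    exact adM_xg r t

/-- Indices of basis matrices with products the matrix units of the first row. -/
def unitWords : Fin 6 → List I14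
  | ⟨0, _⟩ => [Sum.inl ⟨0, by decide⟩, Sum.inr ⟨1, by decide⟩, Sum.inr ⟨10, by decide⟩]
  | ⟨1, _⟩ => [Sum.inr ⟨1, by decide⟩, Sum.inr ⟨9, by decide⟩]
  | ⟨2, _⟩ => [Sum.inl ⟨0, by decide⟩, Sum.inr ⟨3, by decide⟩]
  | ⟨3, _⟩ => [Sum.inl ⟨0, by decide⟩, Sum.inr ⟨1, by decide⟩]
  | ⟨4, _⟩ => [Sum.inr ⟨0, by decide⟩, Sum.inl ⟨1, by decide⟩]
  | ⟨_, _⟩ => [Sum.inr ⟨0, by decide⟩, Sum.inr ⟨4, by decide⟩]

theorem unitWords_spec : ∀ i : Fin 6,
    ((unitWords i).map bas).prod = Matrix.single 0 i 1 := by decide +kernel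

theorem ad_injective : Function.Injective ad := by
  rw [injective_iff_map_eq_one]
  intro g hg
  have hA : adM (g : GL (Fin 6) K4) = 1 := by rw [← coe_ad, hg, Units.val_one]
  obtain ⟨hspan, hJ⟩ := inv6_of_mem g.2
  set G : M6 := ((g : GL (Fin 6) K4) : M6) with hG
  have hcomm : ∀ k, G * bas k = bas k * G := by
    intro k
    have h := hspan k
    rw [hA] at h
    simp only [Matrix.one_apply, ite_smul, one_smul, zero_smul, Finset.sum_ite_eq',
      Finset.mem_univ, if_true] at h
    conv_rhs => rw [← h]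
    rw [mul_assoc, ← hG]
    rw [← Units.val_mul, inv_mul_cancel, Units.val_one, mul_one]
  have hw : ∀ i : Fin 6, Commute G (Matrix.single 0 i 1) := by
    intro i
    rw [← unitWords_spec i]
    exact Commute.list_prod_right _ _ fun x hx => by
      obtain ⟨k, -, rfl⟩ := List.mem_map.1 hx
      exact hcomm k
  have hs : ∀ i j : Fin 6, G i j = if i = j then G 0 0 else 0 := by
    intro i j
    have h := congrFun (congrFun (hw i).eq 0) j
    rw [Matrix.single_mul_apply_same, one_mul] at h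
    rw [← h]
    by_cases hij : i = j
    · subst hij; rw [Matrix.mul_single_apply_same, mul_one, if_pos rfl]
    · rw [if_neg hij, Matrix.mul_single_apply_of_ne _ _ _ _ _ (Ne.symm hij)]
  have hG' : G = G 0 0 • (1 : M6) := by
    ext i j
    rw [hs i j, Matrix.smul_apply, Matrix.one_apply, smul_eq_mul, mul_ite, mul_one, mul_zero]
  rw [hG', Matrix.transpose_smul, Matrix.transpose_one, Matrix.smul_mul, one_mul,
    Matrix.mul_smul, mul_one, smul_smul] at hJ
  have hc := congrFun (congrFun hJ 0) 5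
  have h1 : ∀ c : K4, (c * c) * J6 0 5 = J6 0 5 → c = 1 := by decide +kernel
  rw [h1 _ hc, one_smul] at hG'
  exact Subtype.ext (Units.ext (hG ▸ hG'))

/-- The isomorphism with the Chevalley group. -/
noncomputable def equivGroup : G6 ≃* chevG2.group K4 :=
  (MonoidHom.ofInjective ad_injective).trans (MulEquiv.subgroupCongr ad_range)

end Cfsg.Agent.Lib.G24
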