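import Cfsg.Prelude.Def_ChevG2
import Cfsg.Agent.Lib.G24.Field

/-!
The six-dimensional representation of `G2` over the field with four elements: tables and checks.
-/

set_option autoImplicit false
set_option maxRecDepth 100000
set_option maxHeartbeats 4000000

namespace Cfsg.Agent.Lib.G24

open Matrix Cfsg.Lie

abbrev M6 : Type := Matrix (Fin 6) (Fin 6) K4
abbrev I14 : Type := chevG2.Idx

/-- Nonzero entries of the linear part of a root element. -/
def pairs : List (List (ℕ × ℕ)) :=
  [[(0, 4), (1, 5)], [(0, 3), (2, 5)], [(1, 3), (2, 4)], [(0, 2), (3, 5)], [(0, 1), (4, 5)], [(1, 2), (3, 4)],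
   [(2, 1), (4, 3)], [(1, 0), (5, 4)], [(2, 0), (5, 3)], [(3, 1), (4, 2)], [(3, 0), (5, 2)], [(4, 0), (5, 1)]]

/-- The entry of the quadratic part of a root element. -/
def quad : List (List (ℕ × ℕ)) :=
  [[], [], [(0, 5)], [(1, 4)], [(2, 3)], [], [], [(3, 2)], [(4, 1)], [(5, 0)], [], []]

/-- Diagonal entries of the coroots. -/
def diag : List (List (ℕ × ℕ)) := [[(0, 0), (1, 1), (4, 4), (5, 5)], [(1, 1), (2, 2), (3, 3), (4, 4)]]

/-- The matrix with unit entries at the listed places. -/
def ofList (L : List (ℕ × ℕ)) : M6 := Matrix.of fun i j => if L.contains (i.val, j.val) then 1 else 0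

/-- The root element of the representation. -/
def xm (r : Fin 12) (t : K4) : M6 :=
  Matrix.of fun i j => (if i = j then 1 else 0) + (ofList (pairs.getD r.val []) i j * t +
    ofList (quad.getD r.val []) i j * (t * t))

/-- The images of the Chevalley basis. -/
def bas : I14 → M6
  | Sum.inl i => ofList (diag.getD i.val [])
  | Sum.inr s => ofList (pairs.getD s.val [])

/-- An entry in which only one basis matrix is nonzero. -/
def piv : I14 → Fin 6 × Fin 6
  | Sum.inl i => if i.val = 0 then (0, 0) else (2, 2)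
  | Sum.inr s => (([(0, 4), (0, 3), (1, 3), (0, 2), (0, 1), (1, 2), (2, 1), (1, 0), (2, 0), (3, 1), (3, 0), (4, 0)] :
      List (Fin 6 × Fin 6))).getD s.val (0, 0)

/-- The symplectic form. -/
def J6 : M6 := ofList [(0, 5), (1, 4), (2, 3), (3, 2), (4, 1), (5, 0)]

theorem coord_bas : ∀ l k : I14, bas k (piv l).1 (piv l).2 = if l = k then 1 else 0 := by decide +kernel

theorem xm_sq : ∀ (r : Fin 12) (t : K4), xm r t * xm r t = 1 := by decide +kernel

theorem xm_symp : ∀ (r : Fin 12) (t : K4), (xm r t)ᵀ * J6 * xm r t = J6 := by decide +kernel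

theorem J6_sq : J6 * J6 = 1 := by decide +kernel

theorem coord_xm : ∀ (r : Fin 12) (t : K4) (k l : I14),
    (xm r t * (bas k * xm r t)) (piv l).1 (piv l).2 = chevG2.xMat K4 r t l k := by decide +kernel

theorem span_xm : ∀ (r : Fin 12) (t : K4) (k : I14) (i j : Fin 6),
    (xm r t * (bas k * xm r t)) i j =
      ∑ l : I14, bas l i j * (xm r t * (bas k * xm r t)) (piv l).1 (piv l).2 := by decide +kernel

end Cfsg.Agent.Lib.G24
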