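import Cfsg.Agent.Lib.G24.Rep
import Mathlib.LinearAlgebra.Matrix.Notation

/-!
Elements of orders 6, 10, 7 and 13; the last two fix no non-zero vector.
-/

set_option autoImplicit false
set_option maxRecDepth 100000

namespace Cfsg.Agent.Lib.G24

open Matrix

/-- An element of order 6. -/
def six : G6 := ⟨xg 0 K4.e * xg 2 K4.e * xg 11 K4.e, by
  repeat apply mul_mem
  all_goals exact xg_mem _ _⟩

theorem six_one : (((six : G6) : GL (Fin 6) K4) : M6) = (!![0, 1, 0, 0, 1, 1; 0, 0, 0, 1, 0, 1; 1, 0, 1, 0, 1, 0; 0, 0, 0, 1, 0, 0; 1, 0, 0, 0, 1, 0; 0, 1, 0, 0, 0, 1] : M6) := by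
  decide +kernel

theorem six_2 : (((six : G6) : GL (Fin 6) K4) : M6) ^ 2 = (!![1, 1, 0, 1, 1, 0; 0, 1, 0, 1, 0, 1; 0, 1, 1, 0, 1, 1; 0, 0, 0, 1, 0, 0; 1, 1, 0, 0, 0, 1; 0, 1, 0, 1, 0, 0] : M6) := by
  show ((((six : G6) : GL (Fin 6) K4) : M6)) ^ (1 + 1) = _
  rw [pow_add, pow_one, six_one]
  decide +kernel

theorem six_4 : (((six : G6) : GL (Fin 6) K4) : M6) ^ 4 = (!![0, 1, 0, 1, 1, 0; 0, 0, 0, 1, 0, 1; 1, 0, 1, 0, 1, 1; 0, 0, 0, 1, 0, 0; 1, 1, 0, 1, 1, 1; 0, 1, 0, 0, 0, 1] : M6) := by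
  show ((((six : G6) : GL (Fin 6) K4) : M6)) ^ (2 + 2) = _
  rw [pow_add, six_2]
  decide +kernel

theorem six_pow6 : (((six : G6) : GL (Fin 6) K4) : M6) ^ 6 = 1 := by
  show ((((six : G6) : GL (Fin 6) K4) : M6)) ^ (4 + 2) = 1
  rw [pow_add, six_4, six_2]
  decide +kernel

theorem six_pow3 : (((six : G6) : GL (Fin 6) K4) : M6) ^ 3 ≠ 1 := by
  show ((((six : G6) : GL (Fin 6) K4) : M6)) ^ (2 + 1) ≠ 1
  rw [pow_add, six_2, pow_one, six_one]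
  decide +kernel

theorem six_pow2 : (((six : G6) : GL (Fin 6) K4) : M6) ^ 2 ≠ 1 := by
  rw [six_2]
  decide +kernel

/-- An element of order 10. -/
def ten : G6 := ⟨xg 0 K4.e * xg 2 K4.e * xg 9 K4.w, by
  repeat apply mul_mem
  all_goals exact xg_mem _ _⟩

theorem ten_one : (((ten : G6) : GL (Fin 6) K4) : M6) = (!![K4.w, 0, K4.w, 0, 1, 1; K4.v, K4.v, 0, 1, 0, 1; 0, 0, K4.v, 0, 1, 0; 0, K4.w, 0, 1, 0, 0; 0, 0, K4.w, 0, 1, 0; K4.v, 0, 0, 0, 0, 1] : M6) := by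
  decide +kernel

theorem ten_2 : (((ten : G6) : GL (Fin 6) K4) : M6) ^ 2 = (!![0, 0, 0, 0, 1, K4.v; 0, 0, 1, K4.w, K4.v, 1; 0, 0, 0, 0, K4.w, 0; 1, K4.v, 0, K4.v, 0, K4.w; 0, 0, K4.v, 0, K4.v, 0; K4.w, 0, 1, 0, K4.v, K4.w] : M6) := by
  show ((((ten : G6) : GL (Fin 6) K4) : M6)) ^ (1 + 1) = _
  rw [pow_add, pow_one, ten_one]
  decide +kernel

theorem ten_4 : (((ten : G6) : GL (Fin 6) K4) : M6) ^ 4 = (!![1, 0, 0, 0, 1, 1; 0, 1, K4.v, 1, K4.v, 1; 0, 0, 1, 0, 1, 0; 0, K4.w, 1, K4.v, K4.w, K4.w; 0, 0, K4.w, 0, K4.v, 0; K4.v, 0, 0, 0, K4.v, K4.w] : M6) := by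
  show ((((ten : G6) : GL (Fin 6) K4) : M6)) ^ (2 + 2) = _
  rw [pow_add, ten_2]
  decide +kernel

theorem ten_8 : (((ten : G6) : GL (Fin 6) K4) : M6) ^ 8 = (!![K4.w, 0, K4.w, 0, 1, K4.v; K4.v, K4.v, 0, K4.w, K4.v, 1; 0, 0, K4.v, 0, K4.w, 0; 1, K4.v, 0, 0, 1, 0; 0, 0, K4.v, 0, 0, 0; K4.w, 0, 1, 0, 0, 0] : M6) := by
  show ((((ten : G6) : GL (Fin 6) K4) : M6)) ^ (4 + 4) = _
  rw [pow_add, ten_4]
  decide +kernel

theorem ten_pow10 : (((ten : G6) : GL (Fin 6) K4) : M6) ^ 10 = 1 := by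
  show ((((ten : G6) : GL (Fin 6) K4) : M6)) ^ (8 + 2) = 1
  rw [pow_add, ten_8, ten_2]
  decide +kernel

theorem ten_pow5 : (((ten : G6) : GL (Fin 6) K4) : M6) ^ 5 ≠ 1 := by
  show ((((ten : G6) : GL (Fin 6) K4) : M6)) ^ (4 + 1) ≠ 1
  rw [pow_add, ten_4, pow_one, ten_one]
  decide +kernel

theorem ten_pow2 : (((ten : G6) : GL (Fin 6) K4) : M6) ^ 2 ≠ 1 := by
  rw [ten_2]
  decide +kernel

/-- An element of order 7. -/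
def seven : G6 := ⟨xg 0 K4.e * xg 4 K4.e * xg 9 K4.e, by
  repeat apply mul_mem
  all_goals exact xg_mem _ _⟩

theorem seven_one : (((seven : G6) : GL (Fin 6) K4) : M6) = (!![0, 1, 1, 0, 1, 1; 1, 1, 0, 0, 0, 1; 0, 1, 1, 1, 0, 0; 0, 1, 0, 1, 0, 0; 1, 0, 1, 0, 1, 1; 1, 0, 0, 0, 0, 1] : M6) := by
  decide +kernel

theorem seven_2 : (((seven : G6) : GL (Fin 6) K4) : M6) ^ 2 = (!![1, 0, 0, 1, 1, 1; 0, 0, 1, 0, 1, 1; 1, 1, 1, 0, 0, 1; 1, 0, 0, 1, 0, 1; 0, 0, 1, 1, 0, 1; 1, 1, 1, 0, 1, 0] : M6) := by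
  show ((((seven : G6) : GL (Fin 6) K4) : M6)) ^ (1 + 1) = _
  rw [pow_add, pow_one, seven_one]
  decide +kernel

theorem seven_4 : (((seven : G6) : GL (Fin 6) K4) : M6) ^ 4 = (!![1, 1, 0, 1, 0, 1; 0, 0, 1, 1, 1, 0; 1, 0, 1, 1, 1, 1; 1, 1, 1, 0, 0, 0; 1, 0, 0, 1, 1, 0; 0, 1, 1, 0, 0, 0] : M6) := by
  show ((((seven : G6) : GL (Fin 6) K4) : M6)) ^ (2 + 2) = _
  rw [pow_add, seven_2]
  decide +kernel

theorem seven_pow7 : (((seven : G6) : GL (Fin 6) K4) : M6) ^ 7 = 1 := by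
  show ((((seven : G6) : GL (Fin 6) K4) : M6)) ^ (4 + 2 + 1) = 1
  rw [pow_add, pow_add, seven_4, seven_2, pow_one, seven_one]
  decide +kernel

theorem seven_fpf : (((seven : G6) : GL (Fin 6) K4) : M6) ≠ 1 ∧
    ∀ v : Fin 6 → K4, ((((seven : G6) : GL (Fin 6) K4) : M6)) *ᵥ v = v → v = 0 := by
  refine ⟨by rw [seven_one]; decide +kernel, fun v hv => ?_⟩
  have h : (!![0, 0, 0, 0, 0, 1; 0, 0, 0, 1, 0, 0; 0, 1, 0, 0, 1, 0; 0, 0, 1, 1, 0, 0; 1, 0, 0, 1, 1, 0; 0, 1, 0, 0, 0, 1] : M6) * (((((seven : G6) : GL (Fin 6) K4) : M6)) - 1) = 1 := by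
    rw [seven_one]; decide +kernel
  rw [← Matrix.one_mulVec v, ← h, ← Matrix.mulVec_mulVec, Matrix.sub_mulVec, hv, Matrix.one_mulVec,
    sub_self, Matrix.mulVec_zero]

/-- An element of order 13. -/
def thirteen : G6 := ⟨xg 0 K4.e * xg 2 K4.e * xg 4 K4.w * xg 9 K4.w, by
  repeat apply mul_mem
  all_goals exact xg_mem _ _⟩

theorem thirteen_one : (((thirteen : G6) : GL (Fin 6) K4) : M6) = (!![K4.v, K4.w, K4.w, 0, 1, K4.v; K4.v, K4.v, 0, 1, 0, 1; 1, 1, K4.v, K4.v, 1, K4.w; 0, K4.w, 0, 1, 0, 0; 1, 0, K4.w, 0, 1, K4.w; K4.v, 0, 0, 0, 0, 1] : M6) := by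
  decide +kernel

theorem thirteen_2 : (((thirteen : G6) : GL (Fin 6) K4) : M6) ^ 2 = (!![K4.w, K4.w, K4.w, K4.v, 0, K4.w; K4.v, 1, 1, K4.w, K4.v, 0; K4.v, K4.v, K4.w, 0, K4.v, K4.v; 1, K4.v, 0, K4.v, 0, K4.w; 1, 0, 1, 1, K4.w, 0; 1, 1, 1, 0, K4.v, K4.v] : M6) := by
  show ((((thirteen : G6) : GL (Fin 6) K4) : M6)) ^ (1 + 1) = _
  rw [pow_add, pow_one, thirteen_one]
  decide +kernel

theorem thirteen_4 : (((thirteen : G6) : GL (Fin 6) K4) : M6) ^ 4 = (!![K4.w, 0, 0, 0, 1, K4.w; 0, K4.w, 1, K4.w, 1, 1; K4.w, 0, 1, 0, 0, K4.w; 1, 1, K4.v, 0, K4.v, K4.w; K4.w, K4.w, K4.w, K4.w, 0, K4.v; K4.w, K4.v, 1, K4.w, K4.v, K4.v] : M6) := by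
  show ((((thirteen : G6) : GL (Fin 6) K4) : M6)) ^ (2 + 2) = _
  rw [pow_add, thirteen_2]
  decide +kernel

theorem thirteen_8 : (((thirteen : G6) : GL (Fin 6) K4) : M6) ^ 8 = (!![K4.w, K4.v, 0, 1, K4.v, 1; 0, 0, 1, K4.v, 0, K4.v; K4.w, 1, K4.v, K4.v, K4.v, 0; 1, K4.w, 1, 0, 1, 1; K4.v, K4.v, K4.w, K4.w, K4.v, K4.v; K4.v, 0, 1, 1, K4.w, 1] : M6) := by
  show ((((thirteen : G6) : GL (Fin 6) K4) : M6)) ^ (4 + 4) = _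
  rw [pow_add, thirteen_4]
  decide +kernel

theorem thirteen_pow13 : (((thirteen : G6) : GL (Fin 6) K4) : M6) ^ 13 = 1 := by
  show ((((thirteen : G6) : GL (Fin 6) K4) : M6)) ^ (8 + 4 + 1) = 1
  rw [pow_add, pow_add, thirteen_8, thirteen_4, pow_one, thirteen_one]
  decide +kernel

theorem thirteen_fpf : (((thirteen : G6) : GL (Fin 6) K4) : M6) ≠ 1 ∧
    ∀ v : Fin 6 → K4, ((((thirteen : G6) : GL (Fin 6) K4) : M6)) *ᵥ v = v → v = 0 := by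
  refine ⟨by rw [thirteen_one]; decide +kernel, fun v hv => ?_⟩
  have h : (!![0, 0, 0, 0, 0, K4.w; 0, 0, 0, K4.v, 0, 0; K4.v, K4.w, K4.v, K4.v, K4.v, 0; K4.v, K4.v, K4.v, K4.w, 0, 0; K4.w, K4.w, K4.v, K4.w, 1, 0; K4.v, K4.w, K4.v, K4.v, 0, 1] : M6) * (((((thirteen : G6) : GL (Fin 6) K4) : M6)) - 1) = 1 := by
    rw [thirteen_one]; decide +kernel
  rw [← Matrix.one_mulVec v, ← h, ← Matrix.mulVec_mulVec, Matrix.sub_mulVec, hv, Matrix.one_mulVec,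
    sub_self, Matrix.mulVec_zero]

end Cfsg.Agent.Lib.G24
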